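import Mathlib
import Cfsg.Agent.Lib.BN.Parabolic
import Cfsg.Agent.Lib.St.Char

/-!
# The Steinberg character of a finite group with a BN-pair
-/

set_option autoImplicit false

namespace CfsgLib.BN

open Cfsg CfsgLib.Char

namespace ExchSys

variable {B W : Type*} [Group W] (E : ExchSys B W)

/-- `d` has no right descent in `J` -/
def Min (J : Set B) (d : W) : Prop := ∀ j ∈ J, E.len d < E.len (d * E.s j)

variable {E}

theorem P_iff_inv {i : B} {w : W} : E.P i w ↔ E.len w⁻¹ < E.len (w⁻¹ * E.s i) := by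
  rw [P_iff, ← E.len_inv (w⁻¹ * E.s i), mul_inv_rev, inv_inv, s_inv, len_inv]

theorem par_induction_right {J : Set B} {p : W → Prop} (h1 : p 1)
    (hs : ∀ v ∈ E.par J, ∀ j ∈ J, p v → p (v * E.s j)) {v : W} (hv : v ∈ E.par J) : p v := by
  obtain ⟨l, hl, rfl⟩ := (E.mem_closure_iff_word J v).1 hv
  clear hv
  induction l using List.reverseRecOn with
  | nil => exact h1
  | append_singleton l j ih =>
    rw [wp_concat]
    exact hs _ (E.wp_mem_par fun k hk => hl k (by simp [hk])) j (hl j (by simp))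
      (ih fun k hk => hl k (by simp [hk]))

theorem Min.len_mul {J : Set B} {d : W} (hd : E.Min J d) {v : W} (hv : v ∈ E.par J) :
    E.len (d * v) = E.len d + E.len v := by
  induction d using E.induction_red_left generalizing v with
  | h1 => simp
  | hs i d hP ih =>
    have l1 := E.len_of_P hP
    have hd' : E.Min J d := fun j hj => by
      have h1 := hd j hj
      have h2 := E.len_s_mul_le i (d * E.s j)
      rw [mul_assoc] at h1
      omega
    have key : E.P i (d * v) := by
      refine par_induction_right (p := fun v => E.P i (d * v)) (by simpa using hP) ?_ hv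
      intro v hv j hj h1
      by_contra h2
      rw [← mul_assoc] at h2
      have h3 := E.P_exch i j _ h1 h2
      have hy : v * E.s j * v⁻¹ ∈ E.par J := mul_mem (mul_mem hv (E.s_mem_par hj)) (inv_mem hv)
      have h4 : E.s i * d = d * (v * E.s j * v⁻¹) := by
        rw [← mul_assoc, ← mul_assoc, ← h3]; group
      have h5 := ih hd' hy
      rw [← h4, l1] at h5
      obtain ⟨l, hl, hr, he⟩ := E.mem_par_iff.1 hy
      rw [Red, he] at hr
      obtain ⟨k, rfl⟩ := List.length_eq_one_iff.1 (show l.length = 1 by omega)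
      have h6 := hd k (hl k (by simp))
      rw [h4, ← he, wp_singleton, mul_s_mul_s, ← E.wp_singleton, he, ← h4] at h6
      omega
    rw [mul_assoc, E.len_of_P key, ih hd' hv, l1]
    omega

theorem Min.eq_one {J : Set B} {d v : W} (hd : E.Min J d) (hv : v ∈ E.par J) (h : E.Min J (d * v)) :
    v = 1 := by
  have h1 := hd.len_mul hv
  have h2 := h.len_mul (inv_mem hv)
  rw [mul_inv_cancel_right, len_inv] at h2
  exact E.len_eq_zero.1 (by omega)

theorem exists_dc_min (J K : Set B) (w : W) :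
    ∃ a ∈ E.par K, ∃ b ∈ E.par J, E.Min J (a * w * b) ∧ E.Min K (a * w * b)⁻¹ := by
  induction h : E.len w using Nat.strong_induction_on generalizing w with
  | _ n ih =>
    by_cases h1 : E.Min J w
    · by_cases h2 : E.Min K w⁻¹
      · exact ⟨1, one_mem _, 1, one_mem _, by simpa using h1, by simpa using h2⟩
      · unfold Min at h2
        push Not at h2
        obtain ⟨k, hk, hn⟩ := h2
        have := E.len_lt_of_not_P (i := k) (w := w) (by rw [P_iff_inv]; omega)
        obtain ⟨a, ha, b, hb, h3⟩ := ih _ (by omega) (E.s k * w) rfl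
        exact ⟨a * E.s k, mul_mem ha (E.s_mem_par hk), b, hb, by simpa only [mul_assoc] using h3⟩
    · unfold Min at h1
      push Not at h1
      obtain ⟨k, hk, hn⟩ := h1
      have := E.len_mul_s k w
      obtain ⟨a, ha, b, hb, h3⟩ := ih _ (by omega) (w * E.s k) rfl
      exact ⟨a, ha, E.s k * b, mul_mem (E.s_mem_par hk) hb, by simpa only [mul_assoc] using h3⟩

theorem dc_unique {J K : Set B} {d a b : W} (hJ : E.Min J d) (hK : E.Min K d⁻¹) (ha : a ∈ E.par K)
    (hb : b ∈ E.par J) (hJ' : E.Min J (a * d * b)) (hK' : E.Min K (a * d * b)⁻¹) : a * d * b = d := by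
  have key : ∃ a' ∈ E.par K, ∃ b' ∈ E.par J, a * d = a' * d * b' ∧ E.Min J (a' * d) := by
    have := par_induction_right (p := fun a => ∃ a' ∈ E.par K, ∃ b' ∈ E.par J,
      a⁻¹ * d = a' * d * b' ∧ E.Min J (a' * d)) ⟨1, one_mem _, 1, one_mem _, by simp, by simpa using hJ⟩
      (fun v _ k hk ⟨a', ha', b', hb', e, hm⟩ => ?_) (inv_mem ha)
    · rwa [inv_inv] at this
    rw [mul_inv_rev, s_inv, mul_assoc, e]
    by_cases h1 : E.Min J (E.s k * (a' * d))
    · exact ⟨E.s k * a', mul_mem (E.s_mem_par hk) ha', b', hb', by group, by rwa [mul_assoc]⟩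
    · unfold Min at h1
      push Not at h1
      obtain ⟨j, hj, h1⟩ := h1
      have h2 := hm j hj
      have h3 := E.le_len_s_mul k (a' * d * E.s j)
      have h4 := E.len_s_mul k (a' * d)
      have h5 := E.len_mul_s j (E.s k * (a' * d))
      rw [mul_assoc] at h1 h5
      have h6 := E.P_exch k j (a' * d) (by rw [P_iff]; omega) (by rw [P_iff]; omega)
      exact ⟨a', ha', E.s j * b', mul_mem (E.s_mem_par hj) hb', by
        rw [← mul_assoc, ← mul_assoc, mul_assoc (E.s k), h6]; group, hm⟩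
  obtain ⟨a', ha', b', hb', e, hm⟩ := key
  rw [e, mul_assoc] at hJ' hK' ⊢
  rw [hm.eq_one (mul_mem hb' hb) hJ', mul_one] at hK' ⊢
  rw [mul_inv_rev] at hK'
  rw [inv_eq_one.1 (hK.eq_one (inv_mem ha') hK'), one_mul]

theorem exists_shorter {i : B} {u : W} (hu : E.P i u) (y : W) (h : ¬ E.P i (u * y)) :
    ∃ y', E.len y' < E.len y ∧ E.s i * (u * y) = u * y' := by
  induction y using E.induction_red_right with
  | h1 => exact absurd (by simpa using hu) h
  | hs k y hy ih =>
    by_cases h1 : E.P i (u * y)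
    · rw [← mul_assoc] at h
      exact ⟨y, hy, by rw [← mul_assoc u, ← mul_assoc, E.P_exch i k _ h1 h, mul_s_mul_s]⟩
    · obtain ⟨y', h2, h3⟩ := ih h1
      have := E.len_mul_s_le k y'
      exact ⟨y' * E.s k, by omega, by rw [← mul_assoc u, ← mul_assoc, h3, mul_assoc]⟩

theorem len_longest {x : W} (hx : ∀ i, ¬ E.P i x) (v : W) : E.len x = E.len v + E.len (v⁻¹ * x) := by
  induction v using E.induction_red_left with
  | h1 => simp
  | hs i v hP ih =>
    obtain ⟨y, h1, h2⟩ := exists_shorter hP (v⁻¹ * x) (by simpa using hx i)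
    have h3 : (E.s i * v)⁻¹ * x = y := by
      rw [mul_inv_cancel_left] at h2
      rw [mul_inv_rev, s_inv, mul_assoc, h2, inv_mul_cancel_left]
    have h4 := E.len_mul_le (E.s i * v) ((E.s i * v)⁻¹ * x)
    rw [mul_inv_cancel_left] at h4
    have h5 := E.len_of_P hP
    rw [h3] at h4 ⊢
    omega

theorem longest_unique {x y : W} (hx : ∀ i, ¬ E.P i x) (hy : ∀ i, ¬ E.P i y) : x = y := by
  have h1 := len_longest hx y
  have h2 := len_longest hy x
  exact (inv_mul_eq_one.1 (E.len_eq_zero.1 (by omega : E.len (y⁻¹ * x) = 0))).symm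

theorem longest_inv {x : W} (hx : ∀ i, ¬ E.P i x) : x⁻¹ = x := by
  refine longest_unique (fun i h => ?_) hx
  have h1 := len_longest hx (x * E.s i)
  rw [P_iff_inv, inv_inv] at h
  rw [mul_inv_rev, s_inv, inv_mul_cancel_right, len_s] at h1
  omega

theorem eq_longest_iff {x d : W} (hx : ∀ i, ¬ E.P i x) :
    (∀ i, ¬ E.len d < E.len (d * E.s i)) ↔ d = x := by
  constructor
  · intro h
    rw [← longest_inv hx, ← inv_eq_iff_eq_inv]
    exact longest_unique (fun i => by rw [P_iff_inv, inv_inv]; exact h i) hx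
  · rintro rfl i h
    exact hx i (by rw [P_iff_inv, longest_inv hx]; exact h)

open Classical in
theorem sum_sign [Fintype B] {x : W} (hx : ∀ i, ¬ E.P i x) (d : W) :
    ∑ J : Finset B, (if E.Min J d then (-1 : ℂ) ^ J.card else 0) = if d = x then 1 else 0 := by
  rw [← Finset.sum_filter]
  have e : Finset.univ.filter (fun J : Finset B => E.Min J d) =
      (Finset.univ.filter fun j => E.len d < E.len (d * E.s j)).powerset := by
    ext J
    simp [Min, Finset.subset_iff]
  rw [e]
  have := congrArg (Int.cast : ℤ → ℂ) (Finset.sum_powerset_neg_one_pow_card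
    (x := Finset.univ.filter fun j => E.len d < E.len (d * E.s j)))
  push_cast at this
  rw [this]
  simp only [Finset.filter_eq_empty_iff, Finset.mem_univ, true_imp_iff, ← eq_longest_iff hx]

end ExchSys

variable {G : Type*} [Group G] (P : BNPair G)

/-- the standard parabolic subgroup of a set of simple reflections -/
abbrev par (J : Set P.S) : Subgroup G := P.parabolic (Subtype.val '' J)

/-- a representative of `w` in `N` -/
noncomputable def rep (w : W P) : G := (cls_surj P w).choose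

theorem rep_mem (w : W P) : rep P w ∈ P.N := (cls_surj P w).choose_spec.choose

theorem cls_rep (w : W P) : cls P (rep_mem P w) = w := (cls_surj P w).choose_spec.choose_spec

theorem rep_mem_cell (w : W P) : rep P w ∈ cell P w := by
  have := self_mem_cell P (rep_mem P w)
  rwa [cls_rep] at this

/-- the type of a chamber -/
noncomputable def typ (x : G ⧸ P.B) : W P := (exists_mem_cell P x.out).choose

variable {P}

theorem typ_mk {g : G} {w : W P} : typ P (g : G ⧸ P.B) = w ↔ g ∈ cell P w := by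
  have h : g ∈ cell P (typ P (g : G ⧸ P.B)) := by
    obtain ⟨b, hb⟩ := QuotientGroup.mk_out_eq_mul P.B g
    have := (exists_mem_cell P (g : G ⧸ P.B).out).choose_spec
    rw [← typ, hb] at this
    exact (mul_B_mem_cell_iff b.2).1 this
  exact ⟨fun e => e ▸ h, cell_unique h⟩

theorem rep_mem_par {J : Set P.S} {w : W P} (hw : w ∈ (exch P).par J) : rep P w ∈ par P J :=
  mem_parabolic_iff.2 ⟨w, hw, rep_mem_cell P w⟩

theorem mem_B_of_min {J : Set P.S} {d d' : W P} (h : (exch P).Min J d) (h' : (exch P).Min J d')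
    {g p : G} (hg : g ∈ cell P d) (hp : p ∈ par P J) (hgp : g * p ∈ cell P d') : p ∈ P.B := by
  obtain ⟨v, hv, hpv⟩ := mem_parabolic_iff.1 hp
  have h1 := cell_unique (cell_mul_cell_of_len (h.len_mul hv) hg hpv) hgp
  rwa [h.eq_one hv (h1 ▸ h'), mem_cell_one] at hpv

theorem exists_dc (J K : Set P.S) (x : G) : ∃ d, (exch P).Min J d ∧ (exch P).Min K d⁻¹ ∧
    ∃ a ∈ par P K, ∃ p ∈ par P J, x = a * rep P d * p := by
  obtain ⟨w, hx⟩ := exists_mem_cell P x
  obtain ⟨a, ha, b, hb, h1, h2⟩ := ExchSys.exists_dc_min (E := exch P) J K w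
  have hn : (rep P a)⁻¹ * rep P (a * w * b) * (rep P b)⁻¹ ∈ cell P w := by
    have := self_mem_cell P (mul_mem (mul_mem (inv_mem (rep_mem P a)) (rep_mem P (a * w * b)))
      (inv_mem (rep_mem P b)))
    rw [cls_mul P (mul_mem (inv_mem (rep_mem P a)) (rep_mem P _)) (inv_mem (rep_mem P b)),
      cls_mul P (inv_mem (rep_mem P a)) (rep_mem P _), cls_inv P (rep_mem P a), cls_inv P (rep_mem P b),
      cls_rep, cls_rep, cls_rep] at this
    simpa [mul_assoc] using this
  obtain ⟨c, hc, c', hc', rfl⟩ := exists_of_mem_cell hn hx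
  exact ⟨a * w * b, h1, h2, c * (rep P a)⁻¹, mul_mem (B_le_parabolic _ hc) (inv_mem (rep_mem_par ha)),
    (rep P b)⁻¹ * c', mul_mem (inv_mem (rep_mem_par hb)) (B_le_parabolic _ hc'), by simp [mul_assoc]⟩

theorem classInner_par [Fintype G] (J K : Set P.S) :
    classInner (fixedPointCharacter (par P J)) (fixedPointCharacter (par P K)) =
      Nat.card {d : W P // (exch P).Min J d ∧ (exch P).Min K d⁻¹} := by
  refine (classInner_perm_perm (G ⧸ par P J) (G ⧸ par P K)).trans ?_
  congr 1
  refine St.card_orbits_prod _ _ (fun d => rep P d.1) (fun x => ?_) ?_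
  · obtain ⟨d, h1, h2, h3⟩ := exists_dc J K x
    exact ⟨⟨d, h1, h2⟩, h3⟩
  · rintro ⟨d, h1, h2⟩ ⟨d', h1', h2'⟩ a ha p hp e
    simp only at e
    obtain ⟨v, hv, hav⟩ := mem_parabolic_iff.1 ha
    obtain ⟨y, hy, hpy⟩ := mem_parabolic_iff.1 hp
    have h3 := cell_mul_cell_of_len (h2'.len_mul hv) (inv_mem_cell (rep_mem_cell P d')) hav
    have h4 := cell_mul_cell_of_len (h1.len_mul hy) (rep_mem_cell P d) hpy
    have h5 := inv_mem_cell h3
    rw [show ((rep P d')⁻¹ * a)⁻¹ = rep P d * p by rw [← e]; group] at h5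
    have h6 := cell_unique h4 h5
    have h7 : v * d * y = d' := by rw [mul_assoc, h6]; group
    exact Subtype.ext ((ExchSys.dc_unique h1 h2 hv hy (h7 ▸ h1') (h7 ▸ h2')).symm.trans h7)

theorem card_fixedBy_par (J : Set P.S) {b : G} (hb : b ∈ P.B) :
    Nat.card (MulAction.fixedBy (G ⧸ par P J) b) =
      Nat.card {x : G ⧸ P.B // b • x = x ∧ (exch P).Min J (typ P x)} := by
  symm
  let f : G ⧸ P.B → G ⧸ par P J := Subgroup.quotientMapOfLE (B_le_parabolic _)
  have hf : ∀ g : G, f g = g := fun _ => rfl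
  refine Nat.card_congr (Equiv.ofBijective (fun x => ⟨f x.1, ?_⟩) ⟨?_, ?_⟩)
  · obtain ⟨x, hx, -⟩ := x
    induction x using QuotientGroup.induction_on with
    | _ g => exact congrArg f hx
  · rintro ⟨x, hx, h1⟩ ⟨y, hy, h2⟩ e
    induction x using QuotientGroup.induction_on with
    | _ g =>
      induction y using QuotientGroup.induction_on with
      | _ g' =>
        have e' : (g : G ⧸ par P J) = g' := congrArg Subtype.val e
        refine Subtype.ext (QuotientGroup.eq.2 ?_)
        exact mem_B_of_min h1 h2 (typ_mk.1 rfl) (QuotientGroup.eq.1 e') (by simpa using typ_mk.1 rfl)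
  · rintro ⟨x, hx⟩
    induction x using QuotientGroup.induction_on with
    | _ g =>
      obtain ⟨d, h1, -, a, ha, p, hp, rfl⟩ := exists_dc J ∅ g
      rw [par, Set.image_empty, parabolic_empty] at ha
      have hc := B_mul_mem_cell ha (rep_mem_cell P d)
      have e1 : ((a * rep P d * p : G) : G ⧸ par P J) = (a * rep P d : G) :=
        QuotientGroup.mk_mul_of_mem _ hp
      refine ⟨⟨(a * rep P d : G), ?_, by rwa [typ_mk.2 hc]⟩, Subtype.ext e1.symm⟩
      rw [MulAction.mem_fixedBy, e1, MulAction.Quotient.smul_mk, eq_comm, QuotientGroup.eq] at hx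
      rw [MulAction.Quotient.smul_mk, eq_comm, QuotientGroup.eq]
      exact mem_B_of_min h1 h1 hc hx (by rw [mul_inv_cancel_left]; exact B_mul_mem_cell hb hc)

theorem not_P_of_opp {n : G} (hn : n ∈ P.N) (h0 : ∀ b ∈ P.B, n⁻¹ * b * n ∈ P.B → b ∈ P.N) (s : P.S) :
    ¬ (exch P).P s (cls P hn) := by
  intro h
  have hs := P.subset s.2
  have hsi : (s : G)⁻¹ ∈ cell P (sW P s) := by
    have := inv_mem_cell (S_mem_cell s)
    rwa [sW_inv] at this
  have key : ∀ b ∈ P.B, (s : G)⁻¹ * b * s ∈ P.B := fun b hb => by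
    obtain ⟨b1, h1, b2, h2, e⟩ := exists_of_mem_cell (h _ hsi _ (self_mem_cell P hn))
      (h _ (mul_B_mem_cell hsi hb) _ (self_mem_cell P hn))
    have h3 : (s : G) * b1 * (s : G)⁻¹ ∈ P.B := by
      rcases cell_s_mul s (mul_B_mem_cell (S_mem_cell s) h1) hsi with h4 | h4
      · rwa [sW_sq, mem_cell_one] at h4
      · have h5 := h _ (B_mul_mem_cell (inv_mem hb) h4) _ (self_mem_cell P hn)
        rw [show b⁻¹ * (s * b1 * (s : G)⁻¹) * n = n * b2⁻¹ by
          rw [eq_mul_inv_iff_mul_eq]
          calc _ = b⁻¹ * s * (b1 * ((s : G)⁻¹ * n) * b2) := by group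
            _ = n := by rw [← e]; group] at h5
        exact absurd (by simpa using cell_unique h5 (mul_B_mem_cell (self_mem_cell P hn) (inv_mem h2)))
          (sW_ne_one s)
    have h4 : (s * b1 * (s : G)⁻¹)⁻¹ * b = n * b2 * n⁻¹ := by
      calc _ = s * b1⁻¹ * ((s : G)⁻¹ * b * n) * n⁻¹ := by group
        _ = _ := by rw [e]; group
    have h5 := mul_mem (inv_mem h3) hb
    have h6 := P.conj_mem _ (inv_mem hs) _ ⟨h5, h0 _ h5 (by rw [h4]; simpa [mul_assoc] using h2)⟩
    have := mul_mem h1 h6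
    simpa [mul_assoc] using this
  have hss := P.sq_mem s s.2
  refine P.conj_ne s s.2 (Set.Subset.antisymm ?_ fun b hb => ?_)
  · rintro _ ⟨b, hb, rfl⟩
    have := key _ (mul_mem hss hb)
    simpa [mul_assoc] using this
  · refine ⟨(s : G)⁻¹ * b * (s : G)⁻¹, ?_, by simp [mul_assoc]⟩
    have := key _ (mul_mem hb (inv_mem hss))
    simpa [mul_assoc] using this

/-- the Steinberg character: irreducible, with its values on `B` -/
theorem exists_st [Finite G] {x : W P} (hx : ∀ s, ¬ (exch P).P s x) : ∃ χ : G → ℂ, IsIrrCharacter G χ ∧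
    ∀ b ∈ P.B, χ b = Nat.card {y : G ⧸ P.B // b • y = y ∧ typ P y = x} := by
  classical
  have := Fintype.ofFinite G
  have := Fintype.ofFinite (W P)
  let χ : G → ℂ := ∑ J : Finset P.S, ((-1 : ℤ) ^ J.card) • fixedPointCharacter (par P J)
  have hval : ∀ b ∈ P.B, χ b = Nat.card {y : G ⧸ P.B // b • y = y ∧ typ P y = x} := fun b hb => by
    have h1 : ∀ J : Finset P.S, (((-1 : ℤ) ^ J.card) • fixedPointCharacter (par P J)) b =
        ∑ y : G ⧸ P.B, (if b • y = y then (1 : ℂ) else 0) *
          if (exch P).Min J (typ P y) then (-1) ^ J.card else 0 := fun J => by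
      rw [Pi.smul_apply, fixedPointCharacter, card_fixedBy_par _ hb, Nat.card_eq_fintype_card,
        Fintype.card_subtype, Finset.card_filter, zsmul_eq_mul]
      push_cast
      rw [Finset.mul_sum]
      refine Finset.sum_congr rfl fun y _ => ?_
      by_cases h1 : b • y = y <;> by_cases h2 : (exch P).Min J (typ P y) <;> simp [h1, h2]
    rw [show χ b = _ from Finset.sum_apply _ _ _, Finset.sum_congr rfl fun J _ => h1 J, Finset.sum_comm,
      Nat.card_eq_fintype_card, Fintype.card_subtype, Finset.card_filter]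
    push_cast
    refine Finset.sum_congr rfl fun y _ => ?_
    rw [← Finset.mul_sum]
    have := ExchSys.sum_sign hx (typ P y)
    rw [Finset.sum_congr rfl fun J _ => if_congr Iff.rfl rfl rfl] at this
    rw [this]
    by_cases h1 : b • y = y <;> by_cases h2 : typ P y = x <;> simp [h1, h2]
  refine ⟨χ, isIrr_of_genChar_norm_one (isGenChar_sum _ fun J _ => isGenChar_zsmul _
    (isGenChar_of_isCharacter (isCharacter_perm _))) ?_ ?_, hval⟩
  · have h1 : ∀ J K : Finset P.S, classInner (((-1 : ℤ) ^ J.card) • fixedPointCharacter (par P J))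
        (((-1 : ℤ) ^ K.card) • fixedPointCharacter (par P K)) = ∑ d : W P,
          (if (exch P).Min J d then (-1 : ℂ) ^ J.card else 0) *
          if (exch P).Min K d⁻¹ then (-1) ^ K.card else 0 := fun J K => by
      rw [classInner_zsmul_left, classInner_zsmul_right, classInner_par, Nat.card_eq_fintype_card,
        Fintype.card_subtype, Finset.card_filter]
      push_cast
      rw [Finset.mul_sum, Finset.mul_sum]
      refine Finset.sum_congr rfl fun d _ => ?_
      by_cases h1 : (exch P).Min J d <;> by_cases h2 : (exch P).Min K d⁻¹ <;> simp [h1, h2]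
    rw [classInner_sum_left]
    simp only [χ, classInner_sum_right, h1]
    rw [Finset.sum_congr rfl fun J _ => Finset.sum_comm, Finset.sum_comm]
    simp only [← Finset.mul_sum, ← Finset.sum_mul]
    rw [Finset.sum_eq_single x]
    · have h2 := ExchSys.sum_sign hx x
      rw [if_pos rfl] at h2
      rw [ExchSys.longest_inv hx]
      convert mul_one (1 : ℂ)
    · intro d _ hd
      have h2 := ExchSys.sum_sign hx d
      rw [if_neg hd] at h2
      convert zero_mul _
    · simp
  · rw [hval 1 (one_mem _), Complex.natCast_re]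
    positivity

/-- a split BN-pair of characteristic `p` has a Steinberg character -/
theorem exists_steinberg [Finite G] {p : ℕ} [Fact p.Prime] (U : Sylow p G) (hU : (U : Subgroup G) ≤ P.B)
    (hB : ∀ b ∈ P.B, ∃ u ∈ U, ∃ h ∈ P.B ⊓ P.N, b = u * h) (hH : ¬ p ∣ Nat.card ↥(P.B ⊓ P.N))
    {n : G} (hn : n ∈ P.N) (h0 : ∀ b ∈ P.B, n⁻¹ * b * n ∈ P.B → b ∈ P.N) :
    ∃ χ : G → ℂ, IsIrrCharacter G χ ∧ ∀ Q : Sylow p G, χ 1 = Nat.card Q ∧
      ∀ x : G, x ∈ Q → x ≠ 1 → χ x = 0 := by
  obtain ⟨χ, h1, h2⟩ := exists_st (not_P_of_opp hn h0)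
  have hp : ∀ u ∈ U, ∀ y ∈ P.B, n⁻¹ * (y⁻¹ * u * y) * n ∈ P.B → u = 1 := fun u hu y hy h => by
    have h3 := mul_mem (mul_mem (inv_mem hy) (hU hu)) hy
    have h4 := (P.B ⊓ P.N).orderOf_dvd_natCard ⟨h3, h0 _ h3 h⟩
    obtain ⟨k, hk⟩ := IsPGroup.iff_orderOf.1 U.isPGroup' ⟨u, hu⟩
    rw [Subgroup.orderOf_mk] at hk
    have h5 : orderOf (y⁻¹ * u * y) = orderOf u := by
      simpa using (MulAut.conj y⁻¹).orderOf_eq u
    rw [h5, hk] at h4
    rcases k with _ | k
    · exact orderOf_eq_one_iff.1 hk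
    · exact absurd ((dvd_pow_self p k.succ_ne_zero).trans h4) hH
  have hc : ∀ y : G ⧸ P.B, typ P y = cls P hn → ∃ u ∈ U, y = (u * n : G) := fun y hy => by
    induction y using QuotientGroup.induction_on with
    | _ g =>
      obtain ⟨b, hb, b', hb', rfl⟩ := exists_of_mem_cell (self_mem_cell P hn) (typ_mk.1 hy)
      obtain ⟨u, hu, h, hh, rfl⟩ := hB b hb
      refine ⟨u, hu, QuotientGroup.eq.2 ?_⟩
      have := inv_mem (mul_mem (P.conj_mem _ (inv_mem hn) _ hh) hb')
      simpa [mul_assoc] using this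
  refine ⟨χ, h1, fun Q => ⟨?_, fun x hx hx1 => ?_⟩⟩
  · rw [h2 1 (one_mem _), Nat.card_congr (Q.equiv U).toEquiv]
    congr 1
    refine (Nat.card_congr (Equiv.ofBijective (fun u : (U : Subgroup G) => ⟨(u.1 * n : G), one_smul _ _,
      typ_mk.2 (B_mul_mem_cell (hU u.2) (self_mem_cell P hn))⟩) ⟨fun u v e => ?_, fun y => ?_⟩)).symm
    · have e' := QuotientGroup.eq.1 (congrArg Subtype.val e)
      exact Subtype.ext (inv_mul_eq_one.1 (hp _ (mul_mem (inv_mem u.2) v.2) 1 (one_mem _)
        (by simpa [mul_assoc] using e')))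
    · obtain ⟨u, hu, e⟩ := hc y.1 y.2.2
      exact ⟨⟨u, hu⟩, Subtype.ext e.symm⟩
  · obtain ⟨g, rfl⟩ := MulAction.exists_smul_eq G U Q
    have h3 : g⁻¹ * x * g⁻¹⁻¹ ∈ U := by
      change x ∈ ((g • U : Sylow p G) : Subgroup G) at hx
      rw [Sylow.coe_subgroup_smul, Subgroup.mem_pointwise_smul_iff_inv_smul_mem] at hx
      change _ ∈ (U : Subgroup G)
      simpa using hx
    rw [← isClassFunction_of_isIrr h1 x g⁻¹, h2 _ (hU h3), Nat.cast_eq_zero, Nat.card_eq_zero]
    refine Or.inl ⟨fun y => hx1 ?_⟩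
    obtain ⟨u, hu, e⟩ := hc y.1 y.2.2
    have h4 := y.2.1
    rw [e, MulAction.Quotient.smul_mk, eq_comm, QuotientGroup.eq] at h4
    exact conj_eq_one_iff.1 (hp _ h3 u (hU hu) (by simpa [mul_assoc] using h4))

end CfsgLib.BN
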